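import Mathlib

/-!
Coefficients of Todd-class integrands built from the Bernoulli power series.
-/

open PowerSeries Finset

namespace Groth.Agent.ToddLib

/-- Notation: the Bernoulli series `x / (1 - e^{-x})`. -/
noncomputable abbrev B : ℚ⟦X⟧ := bernoulli'PowerSeries ℚ

lemma rescale_neg_one_mul_exp : rescale (-1 : ℚ) B * exp ℚ = B := by
  have h := bernoulli'PowerSeries_mul_exp_sub_one ℚ
  have hne : exp ℚ - 1 ≠ 0 := fun h0 => by
    have := congrArg (coeff 1) h0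
    simp at this
  have h' : rescale (-1 : ℚ) B * (rescale (-1 : ℚ) (exp ℚ) - 1) = -X * rescale (-1 : ℚ) (exp ℚ) := by
    have := congrArg (rescale (-1 : ℚ)) h
    rw [map_mul, map_mul, map_sub, map_one, rescale_neg_one_X] at this
    exact this
  have he : rescale (-1 : ℚ) (exp ℚ) * exp ℚ = 1 := by
    have h1 := exp_mul_exp_eq_exp_add (-1 : ℚ) 1
    rw [neg_add_cancel] at h1
    simpa using h1
  refine mul_right_cancel₀ hne ?_
  rw [h]
  linear_combination (-(exp ℚ) ^ 2) * h' + (rescale (-1 : ℚ) B * exp ℚ + X * exp ℚ) * he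

lemma rescale_neg_mul_exp (y : ℚ) : rescale (-y) B * rescale y (exp ℚ) = rescale y B := by
  have h := congrArg (rescale y) rescale_neg_one_mul_exp
  rw [map_mul, rescale_rescale] at h
  simpa [neg_one_mul, mul_neg] using h

lemma coeff_B (n : ℕ) : coeff n B = bernoulli' n / n.factorial := by
  simp [B, bernoulli'PowerSeries]

/-- The integrand with the `p`-dependence collected in a single factor. -/
noncomputable def A (d : ℚ) (m : ℕ) (c : ℚ) : ℚ⟦X⟧ :=
  (rescale (-d) B)⁻¹ * B ^ m * rescale c (exp ℚ)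

lemma integrand_eq (d y c e : ℚ) (m : ℕ) (he : e = y + c) :
    (rescale (-d) B)⁻¹ * rescale (-y) B * B ^ m * rescale e (exp ℚ) = rescale y B * A d m c := by
  subst he
  rw [← exp_mul_exp_eq_exp_add y c, A, ← rescale_neg_mul_exp y]
  ring

lemma coeff_rescale_mul (y : ℚ) (f : ℚ⟦X⟧) (n : ℕ) :
    coeff n (rescale y B * f) =
      ∑ j ∈ range (n + 1), y ^ j * (bernoulli' j / j.factorial) * coeff (n - j) f := by
  rw [coeff_mul, Nat.sum_antidiagonal_eq_sum_range_succ (fun i j => coeff i (rescale y B) * coeff j f)]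
  simp [coeff_rescale, coeff_B]

lemma coeff_mul0 (f g : ℚ⟦X⟧) : coeff 0 (f * g) = coeff 0 f * coeff 0 g := by
  simp [coeff_mul]

lemma coeff_mul1 (f g : ℚ⟦X⟧) : coeff 1 (f * g) = coeff 0 f * coeff 1 g + coeff 1 f * coeff 0 g := by
  rw [coeff_mul, Nat.sum_antidiagonal_eq_sum_range_succ (fun i j => coeff i f * coeff j g)]
  simp [sum_range_succ]

lemma coeff_mul2 (f g : ℚ⟦X⟧) :
    coeff 2 (f * g) = coeff 0 f * coeff 2 g + coeff 1 f * coeff 1 g + coeff 2 f * coeff 0 g := by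
  rw [coeff_mul, Nat.sum_antidiagonal_eq_sum_range_succ (fun i j => coeff i f * coeff j g)]
  simp [sum_range_succ]

lemma coeff_mul3 (f g : ℚ⟦X⟧) :
    coeff 3 (f * g) =
      coeff 0 f * coeff 3 g + coeff 1 f * coeff 2 g + coeff 2 f * coeff 1 g + coeff 3 f * coeff 0 g := by
  rw [coeff_mul, Nat.sum_antidiagonal_eq_sum_range_succ (fun i j => coeff i f * coeff j g)]
  simp [sum_range_succ]

lemma coeff0_resc (y : ℚ) : coeff 0 (rescale y B) = 1 := by
  simp only [coeff_rescale, coeff_B]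
  simp
lemma coeff1_resc (y : ℚ) : coeff 1 (rescale y B) = y / 2 := by
  simp only [coeff_rescale, coeff_B, bernoulli'_one]
  simp; ring
lemma coeff2_resc (y : ℚ) : coeff 2 (rescale y B) = y ^ 2 / 12 := by
  simp only [coeff_rescale, coeff_B, bernoulli'_two]
  simp [Nat.factorial]; ring
lemma coeff3_resc (y : ℚ) : coeff 3 (rescale y B) = 0 := by
  simp only [coeff_rescale, coeff_B, bernoulli'_three]
  simp

lemma inv_coeffs (d : ℚ) :
    coeff 0 (rescale (-d) B)⁻¹ = 1 ∧ coeff 1 (rescale (-d) B)⁻¹ = d / 2 ∧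
    coeff 2 (rescale (-d) B)⁻¹ = d ^ 2 / 6 ∧ coeff 3 (rescale (-d) B)⁻¹ = d ^ 3 / 24 := by
  have hc : constantCoeff (rescale (-d) B) ≠ 0 := by
    rw [← coeff_zero_eq_constantCoeff_apply, coeff0_resc]
    exact one_ne_zero
  have h := PowerSeries.inv_mul_cancel (rescale (-d) B) hc
  have h0 := congrArg (coeff 0) h
  have h1 := congrArg (coeff 1) h
  have h2 := congrArg (coeff 2) h
  have h3 := congrArg (coeff 3) h
  rw [coeff_mul0, coeff0_resc] at h0
  rw [coeff_mul1, coeff0_resc, coeff1_resc] at h1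
  rw [coeff_mul2, coeff0_resc, coeff1_resc, coeff2_resc] at h2
  rw [coeff_mul3, coeff0_resc, coeff1_resc, coeff2_resc, coeff3_resc] at h3
  simp only [coeff_one, if_true, mul_one, mul_zero, zero_add, add_zero] at h0
  norm_num [h0] at h1 h2 h3
  have e1 : coeff 1 (rescale (-d) B)⁻¹ = d / 2 := by linarith
  rw [e1] at h2 h3
  have e2 : coeff 2 (rescale (-d) B)⁻¹ = d ^ 2 / 6 := by linarith
  rw [e2] at h3
  exact ⟨h0, e1, e2, by linarith⟩

lemma exp_coeffs (c : ℚ) : coeff 0 (rescale c (exp ℚ)) = 1 ∧ coeff 1 (rescale c (exp ℚ)) = c ∧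
    coeff 2 (rescale c (exp ℚ)) = c ^ 2 / 2 ∧ coeff 3 (rescale c (exp ℚ)) = c ^ 3 / 6 := by
  refine ⟨?_, ?_, ?_, ?_⟩ <;> simp [coeff_rescale, coeff_exp, Nat.factorial] <;> ring

lemma coeff0_B : coeff 0 B = 1 := by simp [coeff_B]
lemma coeff1_B : coeff 1 B = 1 / 2 := by simp [coeff_B, bernoulli'_one]
lemma coeff2_B : coeff 2 B = 1 / 12 := by
  simp [coeff_B, bernoulli'_two, Nat.factorial]; norm_num
lemma coeff3_B : coeff 3 B = 0 := by simp [coeff_B, bernoulli'_three]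

lemma pow_coeffs (m : ℕ) : coeff 0 (B ^ m) = 1 ∧ coeff 1 (B ^ m) = (m : ℚ) / 2 := by
  induction m with
  | zero => simp
  | succ m ih =>
    constructor
    · rw [pow_succ, coeff_mul0, ih.1, coeff0_B, one_mul]
    · rw [pow_succ, coeff_mul1, ih.1, ih.2, coeff0_B, coeff1_B]
      push_cast
      ring

lemma A_coeff0 (d : ℚ) (m : ℕ) (c : ℚ) : coeff 0 (A d m c) = 1 := by
  rw [A, coeff_mul0, coeff_mul0, (inv_coeffs d).1, (pow_coeffs m).1, (exp_coeffs c).1]
  norm_num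

lemma A_coeff1 (d : ℚ) (m : ℕ) (c : ℚ) : coeff 1 (A d m c) = d / 2 + (m : ℚ) / 2 + c := by
  rw [A, coeff_mul1, coeff_mul0, coeff_mul1, (inv_coeffs d).1, (inv_coeffs d).2.1, (pow_coeffs m).1,
    (pow_coeffs m).2, (exp_coeffs c).1, (exp_coeffs c).2.1]
  ring

lemma bernoulli'_sign (k : ℕ) (hk : k ≠ 0) : 0 < (-1 : ℚ) ^ (k + 1) * bernoulli' (2 * k) := by
  have h := hasSum_zeta_nat hk
  have hsum : 0 < (-1 : ℝ) ^ (k + 1) * (2 : ℝ) ^ (2 * k - 1) * Real.pi ^ (2 * k) *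
      (bernoulli (2 * k) : ℝ) / (2 * k).factorial := by
    rw [← h.tsum_eq]
    exact h.summable.tsum_pos (fun i => by positivity) 1 (by norm_num)
  have hpos : (0 : ℝ) < 2 ^ (2 * k - 1) * Real.pi ^ (2 * k) := by positivity
  have h2 : 0 < (-1 : ℝ) ^ (k + 1) * (bernoulli (2 * k) : ℝ) := by
    have h3 := mul_pos hsum (show (0 : ℝ) < (2 * k).factorial by exact_mod_cast Nat.factorial_pos _)
    rw [div_mul_cancel₀ _ (by exact_mod_cast (Nat.factorial_pos _).ne')] at h3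
    have h4 : (-1 : ℝ) ^ (k + 1) * (2 : ℝ) ^ (2 * k - 1) * Real.pi ^ (2 * k) * (bernoulli (2 * k) : ℝ) =
        ((-1 : ℝ) ^ (k + 1) * (bernoulli (2 * k) : ℝ)) * (2 ^ (2 * k - 1) * Real.pi ^ (2 * k)) := by ring
    rw [h4] at h3
    exact pos_of_mul_pos_left h3 hpos.le
  rw [← bernoulli_eq_bernoulli'_of_ne_one (by omega)]
  have : (0 : ℝ) < (((-1 : ℚ) ^ (k + 1) * bernoulli (2 * k) : ℚ) : ℝ) := by push_cast; exact h2
  exact_mod_cast this

lemma bernoulli'_neg_of_mod4 {n : ℕ} (hn : n ≠ 0) (h : n % 4 = 0) : bernoulli' n < 0 := by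
  obtain ⟨k, rfl⟩ : ∃ k, n = 2 * (2 * k) := ⟨n / 4, by omega⟩
  have := bernoulli'_sign (2 * k) (by omega)
  rw [pow_succ, pow_mul] at this
  simp at this
  linarith

lemma bernoulli'_pos_of_mod4 {n : ℕ} (h : n % 4 = 2) : 0 < bernoulli' n := by
  obtain ⟨k, rfl⟩ : ∃ k, n = 2 * (2 * k + 1) := ⟨n / 4, by omega⟩
  have := bernoulli'_sign (2 * k + 1) (by omega)
  rw [pow_succ, pow_succ, pow_mul] at this
  simpa using this

open Polynomial in
/-- A polynomial function `a x^(k+1) + (lower)` with `a < 0` is eventually negative. -/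
lemma eventually_neg (P : ℚ[X]) (a : ℚ) (k : ℕ) (ha : a < 0) (hP : P.natDegree ≤ k) :
    ∃ N : ℕ, ∀ p : ℕ, N ≤ p → a * (p : ℚ) ^ (k + 1) + P.eval (p : ℚ) < 0 := by
  obtain ⟨N, hN⟩ := exists_nat_gt ((∑ i ∈ Finset.range (k + 1), |P.coeff i|) / (-a))
  refine ⟨N + 1, fun p hp => ?_⟩
  have hp1 : (1 : ℚ) ≤ p := by exact_mod_cast (by omega : 1 ≤ p)
  have hNp : (N : ℚ) < p := by exact_mod_cast (by omega : N < p)
  set S := ∑ i ∈ Finset.range (k + 1), |P.coeff i|
  have h1 : P.eval (p : ℚ) ≤ S * (p : ℚ) ^ k := by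
    rw [eval_eq_sum_range' (Nat.lt_succ_of_le hP), Finset.sum_mul]
    refine Finset.sum_le_sum fun i hi => ?_
    calc P.coeff i * (p : ℚ) ^ i ≤ |P.coeff i| * (p : ℚ) ^ i :=
          mul_le_mul_of_nonneg_right (le_abs_self _) (by positivity)
      _ ≤ |P.coeff i| * (p : ℚ) ^ k :=
          mul_le_mul_of_nonneg_left (pow_le_pow_right₀ hp1 (by simp at hi; omega)) (abs_nonneg _)
  have h2 : S < (p : ℚ) * (-a) := by
    rw [div_lt_iff₀ (by linarith)] at hN
    nlinarith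
  have hpk : (0 : ℚ) < (p : ℚ) ^ k := by positivity
  rw [pow_succ]
  nlinarith

/-- The general coefficient of the integrand: two leading terms plus a polynomial of lower degree. -/
theorem leading_terms (n d : ℕ) (s : ℤ) (hn : 2 ≤ n) :
    ∃ P : Polynomial ℚ, P.natDegree ≤ n - 2 ∧ ∀ p : ℕ,
      PowerSeries.coeff n ((PowerSeries.rescale (-(d : ℚ)) (bernoulli'PowerSeries ℚ))⁻¹ * PowerSeries.rescale (-((d : ℚ) * p)) (bernoulli'PowerSeries ℚ) * bernoulli'PowerSeries ℚ ^ (n + 1) * PowerSeries.rescale ((d : ℚ) * p - d - n - 1 + s) (PowerSeries.exp ℚ)) =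
        bernoulli' n * ((d : ℚ) * p) ^ n / (Nat.factorial n : ℚ) +
          (2 * (s : ℚ) - d - n - 1) / 2 * bernoulli' (n - 1) * ((d : ℚ) * p) ^ (n - 1) / (Nat.factorial (n - 1) : ℚ) +
          P.eval (p : ℚ) := by
  obtain ⟨m, rfl⟩ : ∃ m, n = m + 2 := ⟨n - 2, by omega⟩
  set c : ℚ := -(d : ℚ) - ((m + 2 : ℕ) : ℚ) - 1 + s
  refine ⟨∑ j ∈ range (m + 1), Polynomial.C ((d : ℚ) ^ j * (bernoulli' j / j.factorial) *
    coeff (m + 2 - j) (A (d : ℚ) (m + 2 + 1) c)) * Polynomial.X ^ j, ?_, fun p => ?_⟩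
  · refine Polynomial.natDegree_sum_le_of_forall_le _ _ fun j hj => ?_
    refine (Polynomial.natDegree_C_mul_X_pow_le _ _).trans ?_
    simp at hj
    omega
  rw [integrand_eq (d : ℚ) ((d : ℚ) * p) c _ _ (by simp only [c]; ring), coeff_rescale_mul,
    sum_range_succ, sum_range_succ, Polynomial.eval_finsetSum]
  simp only [Nat.sub_self, A_coeff0, show m + 2 - (m + 1) = 1 by omega, show m + 2 - 1 = m + 1 by omega,
    A_coeff1, Polynomial.eval_mul, Polynomial.eval_C, Polynomial.eval_pow, Polynomial.eval_X, mul_pow]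
  have hs : ∀ x ∈ range (m + 1), (d : ℚ) ^ x * (p : ℚ) ^ x * (bernoulli' x / (x.factorial : ℚ)) *
        coeff (m + 2 - x) (A (d : ℚ) (m + 2 + 1) c) =
      (d : ℚ) ^ x * (bernoulli' x / (x.factorial : ℚ)) * coeff (m + 2 - x) (A (d : ℚ) (m + 2 + 1) c) * (p : ℚ) ^ x :=
    fun x _ => by ring
  rw [sum_congr rfl hs]
  simp only [c]
  push_cast
  ring

end Groth.Agent.ToddLib
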